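import Groth.Agent.S5094
import Groth.Agent.ASp.LiftDim
import Groth.Agent.CompleteCurve.ProjSpace
import Mathlib

/-!
# Fibres of a resolution over the points where the surface is not regular
-/

set_option autoImplicit false
set_option backward.isDefEq.respectTransparency false
set_option linter.style.haveILetI false
set_option maxHeartbeats 800000

universe u

open CategoryTheory AlgebraicGeometry TopologicalSpace Order

noncomputable section

namespace Groth.Agent.FibCompLib

variable {X Y : Scheme.{u}}

/-- Specializations as the order. -/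
theorem lt_of_specializes {a b : X} (h : b ⤳ a) (hne : a ≠ b) : a < b :=
  lt_iff_le_not_ge.2 ⟨Scheme.le_iff_specializes.2 h, fun h' =>
    hne (((Scheme.le_iff_specializes.1 h').antisymm h).eq)⟩

/-- No chain of three points gives dimension at most one. -/
theorem dim_le_one_of_chains {α : Type*} [TopologicalSpace α] [QuasiSober α] [T0Space α]
    (h : ∀ a b c : α, b ⤳ a → c ⤳ b → a ≠ b → b ≠ c → False) : topologicalKrullDim α ≤ 1 := by
  letI : PartialOrder α := specializationOrder α
  rw [Groth.Agent.ASp.topologicalKrullDim_eq_krullDim (A := α)]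
  unfold Order.krullDim
  refine iSup_le fun q => ?_
  by_contra hlt
  have hlen : 2 ≤ q.length := by
    by_contra h2
    exact hlt (WithBot.coe_le_coe.2 (by exact_mod_cast (show q.length ≤ 1 by omega)))
  have hs : ∀ i j : Fin (q.length + 1), i < j → q j ⤳ q i ∧ q i ≠ q j := fun i j hij =>
    ⟨le_of_lt (q.strictMono hij), ne_of_lt (q.strictMono hij)⟩
  obtain ⟨h01, h01'⟩ := hs ⟨0, by omega⟩ ⟨1, by omega⟩ (Nat.lt_succ_self 0)
  obtain ⟨h12, h12'⟩ := hs ⟨1, by omega⟩ ⟨2, by omega⟩ (Nat.lt_succ_self 1)
  exact h _ _ _ h01 h12 h01' h12'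

/-- A strict specialization gives positive dimension. -/
theorem one_le_dim {α : Type*} [TopologicalSpace α] [QuasiSober α] [T0Space α] {a b : α} (h : b ⤳ a)
    (hne : a ≠ b) : 1 ≤ topologicalKrullDim α := by
  letI : PartialOrder α := specializationOrder α
  rw [Groth.Agent.ASp.topologicalKrullDim_eq_krullDim (A := α)]
  have hlt : a < b := lt_of_le_of_ne h hne
  let p : LTSeries α := ⟨1, ![a, b], fun i => by fin_cases i; exact hlt⟩
  exact LTSeries.length_le_krullDim p

/-- A closed subset not containing the generic point has smaller dimension. -/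
theorem dim_le_one_of_isClosed [IsIntegral Y] (hY : topologicalKrullDim Y = 2) {S : Set Y} (hS : IsClosed S)
    (hη : genericPoint Y ∉ S) : topologicalKrullDim ↥S ≤ 1 := by
  haveI : QuasiSober S := hS.isClosedEmbedding_subtypeVal.quasiSober
  refine dim_le_one_of_chains fun a b c hba hcb hab hbc => ?_
  have h01 : (a : Y) < b := lt_of_specializes (hba.map continuous_subtype_val) fun e => hab (Subtype.ext e)
  have h12 : (b : Y) < c := lt_of_specializes (hcb.map continuous_subtype_val) fun e => hbc (Subtype.ext e)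
  have hη' : (c : Y) < genericPoint Y := lt_of_specializes (genericPoint_specializes _) fun e => hη (e ▸ c.2)
  let p : LTSeries Y := ⟨3, ![(a : Y), (b : Y), (c : Y), genericPoint Y], fun i => by fin_cases i <;> assumption⟩
  have h3 := LTSeries.length_le_krullDim p
  rw [← Groth.Agent.ASp.topologicalKrullDim_eq_krullDim (A := Y), hY] at h3
  exact absurd h3 (by show ¬ ((3 : ℕ) : WithBot ℕ∞) ≤ 2; decide)

/-- Fibre components over a point where the map is no isomorphism. -/
theorem fibre_components [IsIntegral X] [IsIntegral Y] [IsLocallyNoetherian Y] [CompactSpace Y]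
    (φ : Y ⟶ X) [IsProper φ] (hdimY : topologicalKrullDim Y = 2) (hnorm : Pi1.IsNormalScheme X)
    (hregY : ∀ y : Y, IsRegularLocalRing (Y.presheaf.stalk y)) (U : X.Opens) (hU : (U : Set X).Nonempty)
    (hiso : IsIso (φ ∣_ U)) (x : X) (hxc : IsClosed ({x} : Set X))
    (hx : ¬ IsRegularLocalRing (X.presheaf.stalk x)) :
    (φ.base ⁻¹' ({x} : Set X)).Nonempty ∧
      ∀ Z ∈ irreducibleComponents ↥(φ.base ⁻¹' ({x} : Set X)), topologicalKrullDim ↥Z = 1 := by
  haveI := hiso
  obtain ⟨x₀, hx₀⟩ := hU
  have hηU : genericPoint X ∈ U := (genericPoint_specializes x₀).mem_open U.2 hx₀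
  obtain ⟨z, hz⟩ := (φ ∣_ U).surjective ⟨genericPoint X, hηU⟩
  have hzη : φ z.1 = genericPoint X := (morphismRestrict_base_coe φ U z).symm.trans (congrArg Subtype.val hz)
  -- an isomorphism of stalks over `U`
  have hst : ∀ w : (φ ⁻¹ᵁ U : Y.Opens), IsIso (φ.stalkMap w.1) := fun w => by
    have h1 : IsIso ((φ ∣_ U).stalkMap w) := inferInstance
    exact (MorphismProperty.arrow_mk_iso_iff (MorphismProperty.isomorphisms CommRingCat)
      (morphismRestrictStalkMap φ U w)).1 h1
  have hxU : x ∉ U := fun hxU => by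
    obtain ⟨w, hw⟩ := (φ ∣_ U).surjective ⟨x, hxU⟩
    have hwx : φ w.1 = x := (morphismRestrict_base_coe φ U w).symm.trans (congrArg Subtype.val hw)
    refine hx ?_
    subst hwx
    haveI := hst w
    haveI := hregY w.1
    exact IsRegularLocalRing.of_ringEquiv (asIso (φ.stalkMap w.1)).commRingCatIsoToRingEquiv.symm
  have hηY : φ (genericPoint Y) = genericPoint X := by
    have h1 : φ (genericPoint Y) ⤳ genericPoint X := hzη ▸ (genericPoint_specializes z.1).map φ.continuous
    exact (h1.antisymm (genericPoint_specializes _)).eq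
  have hηS : genericPoint Y ∉ φ.base ⁻¹' ({x} : Set X) := fun h => hxU ((show φ (genericPoint Y) = x from h) ▸ hηY ▸ hηU)
  have hgen : IsIso (φ.stalkMap (genericPoint Y)) := hst ⟨genericPoint Y, show φ (genericPoint Y) ∈ U from hηY ▸ hηU⟩
  refine ⟨?_, fun Z hZ => ?_⟩
  · have hr : genericPoint X ∈ Set.range φ.base := ⟨_, hηY⟩
    obtain ⟨y, hy⟩ := (genericPoint_specializes x).mem_closed φ.isClosedMap.isClosed_range hr
    exact ⟨y, hy⟩
  · have hSc : IsClosed (φ.base ⁻¹' ({x} : Set X)) := hxc.preimage φ.continuous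
    have hle : topologicalKrullDim ↥(φ.base ⁻¹' ({x} : Set X)) ≤ 1 := dim_le_one_of_isClosed hdimY hSc hηS
    have hZc := isClosed_of_mem_irreducibleComponents Z hZ
    refine le_antisymm (le_trans (Topology.IsInducing.topologicalKrullDim_le Topology.IsInducing.subtypeVal) hle) ?_
    by_contra hlt
    haveI : IsLocallyNoetherian Y := inferInstance
    haveI : AlgebraicGeometry.IsNoetherian Y := { }
    haveI : NoetherianSpace ↥(φ.base ⁻¹' ({x} : Set X)) := Topology.IsEmbedding.subtypeVal.isInducing.noetherianSpace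
    haveI : QuasiSober ↥(φ.base ⁻¹' ({x} : Set X)) := hSc.isClosedEmbedding_subtypeVal.quasiSober
    obtain ⟨g, hg⟩ := QuasiSober.sober hZ.1 hZc
    -- the component is a point
    have hsing : Z = {g} := by
      refine Set.Subset.antisymm (fun b hb => ?_) (by simpa using hg.mem)
      by_contra hne
      refine hlt ?_
      haveI : QuasiSober Z := hZc.isClosedEmbedding_subtypeVal.quasiSober
      exact one_le_dim (Topology.IsInducing.subtypeVal.specializes_iff.1 (hg.specializes hb) :
          (⟨g, hg.mem⟩ : Z) ⤳ ⟨b, hb⟩) fun e => hne (congrArg Subtype.val e)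
    -- an isolated one
    have hopen : IsOpen ({g} : Set ↥(φ.base ⁻¹' ({x} : Set X))) := by
      have hfin : (irreducibleComponents ↥(φ.base ⁻¹' ({x} : Set X))).Finite := NoetherianSpace.finite_irreducibleComponents
      have hC : IsClosed (⋃ W ∈ irreducibleComponents ↥(φ.base ⁻¹' ({x} : Set X)) \ {Z}, W) :=
        (hfin.subset Set.diff_subset).isClosed_biUnion fun W hW => isClosed_of_mem_irreducibleComponents W hW.1
      have e : ({g} : Set ↥(φ.base ⁻¹' ({x} : Set X))) = (⋃ W ∈ irreducibleComponents ↥(φ.base ⁻¹' ({x} : Set X)) \ {Z}, W)ᶜ := by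
        ext b
        simp only [Set.mem_singleton_iff, Set.mem_compl_iff, Set.mem_iUnion, exists_prop, Set.mem_diff, not_exists,
          not_and, and_imp]
        refine ⟨fun hb W hW hne hbW => hne ?_, fun h => ?_⟩
        · refine Set.Subset.antisymm (hZ.2 hW.1 ?_) (hsing ▸ Set.singleton_subset_iff.2 (hb ▸ hbW))
          exact hsing ▸ Set.singleton_subset_iff.2 (hb ▸ hbW)
        · obtain ⟨W, hW, hbW⟩ : ∃ W ∈ irreducibleComponents ↥(φ.base ⁻¹' ({x} : Set X)), b ∈ W :=
            ⟨_, irreducibleComponent_mem_irreducibleComponents b, mem_irreducibleComponent⟩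
          by_cases hWZ : W = Z
          · rw [hWZ, hsing] at hbW; exact hbW
          · exact absurd hbW (h W hW hWZ)
      rw [e]
      exact hC.isOpen_compl
    let x' : φ.fiber x := (φ.fiberHomeo x).symm g
    have hx' : IsOpen ({x'} : Set ↥(φ.fiber x)) := by
      have e : ({x'} : Set ↥(φ.fiber x)) = (φ.fiberHomeo x).symm '' {g} := by rw [Set.image_singleton]
      rw [e]
      exact (φ.fiberHomeo x).symm.isOpenMap _ hopen
    obtain ⟨V, hxV, hV⟩ := Groth.Agent.S5094.result φ hηY hgen x (hnorm x).2 x' hx'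
    haveI := hV
    obtain ⟨w, hw⟩ := (φ ∣_ V).surjective ⟨x, hxV⟩
    have hwx : φ w.1 = x := (morphismRestrict_base_coe φ V w).symm.trans (congrArg Subtype.val hw)
    refine hx ?_
    subst hwx
    have h1 : IsIso ((φ ∣_ V).stalkMap w) := inferInstance
    haveI := (MorphismProperty.arrow_mk_iso_iff (MorphismProperty.isomorphisms CommRingCat)
      (morphismRestrictStalkMap φ V w)).1 h1
    haveI := hregY w.1
    exact IsRegularLocalRing.of_ringEquiv (asIso (φ.stalkMap w.1)).commRingCatIsoToRingEquiv.symm

end Groth.Agent.FibCompLib
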